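import Groth.Agent.ThetaS.K652.LiftUniq
import Groth.Agent.ThetaS.K943.Points
import Groth.Agent.AlgSt.K738.RepSep
import Groth.Agent.IsoNat.K862.Fp
import Mathlib.AlgebraicGeometry.Morphisms.ClosedImmersion

/-!
# Lifts against `1 : Spec R ⟶ Θ_R`

The chart `D(x) ⟶ A¹_R` maps to the point `1` of `Θ_R`, and closed immersions into `A¹_R` with a section over `D(x)`
are isomorphisms.
-/

set_option autoImplicit false
set_option linter.dupNamespace false
set_option backward.isDefEq.respectTransparency false
set_option backward.isDefEq.respectTransparency.types false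

universe u

open CategoryTheory MonoidalCategory CartesianMonoidalCategory MonObj GrpObj AlgebraicGeometry
  TopologicalSpace Opposite FibCat
open scoped TensorProduct Polynomial

namespace K652.ThetaOne

open ThetaS K951.Pts K942.Coord K943.QuotOpen K943.QuotAtlas K943.QuotTriv K943.Points K943.QuotCover
  K942.AffLift K942.URep

attribute [local instance] K951.Pts.algΓ

/-- A closed immersion into an affine scheme through which a schematically dense morphism factors. -/
theorem isIso_of_factors {V W T : Scheme.{u}} [IsAffine T] (i : V ⟶ T) (hi : Function.Injective i.appTop)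
    (g : W ⟶ T) [IsClosedImmersion g] (s : V ⟶ W) (e : s ≫ g = i) : IsIso g := by
  refine IsClosedImmersion.isIso_of_injective_of_isAffine ?_
  intro x y h
  apply hi
  rw [← e, Scheme.Hom.comp_appTop, CommRingCat.comp_apply, CommRingCat.comp_apply, h]

theorem ext_closed {S : Scheme.{u}} {V T : Over S} (i : V ⟶ T) [IsAffine T.left]
    (hi : Function.Injective i.left.appTop) :
    Ext (MorphismProperty.inverseImage @IsClosedImmersion (Over.forget S)) i := by
  intro W g s hg hs
  have hg' : IsClosedImmersion g.left := hg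
  have hsg : s.left ≫ g.left = i.left := congrArg CommaMorphism.left hs
  have h1 : IsIso g.left := isIso_of_factors i.left hi g.left s.left hsg
  have h2 : IsIso ((Over.forget S).map g) := h1
  have : IsIso g := isIso_of_reflects_iso g (Over.forget S)
  refine ⟨inv g, ⟨?_, IsIso.inv_hom_id g⟩, ?_⟩
  · rw [IsIso.comp_inv_eq, hs]
  · rintro s' ⟨-, h⟩
    rw [← cancel_mono g, h, IsIso.inv_hom_id]

variable {R : Type u} [CommRing R]

/-- Functions on the line inject into functions on `D(x)`. -/
theorem injective_inc : Function.Injective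
    (inc (X := Line R) (lineFn Polynomial.X)).left.appTop := by
  rw [injective_iff_map_eq_zero]
  intro y hy
  have h1 : ((Line R).left.basicOpen (lineFn Polynomial.X)).ι.appTop y = 0 := hy
  obtain ⟨n, hn⟩ := K942.Hartogs.exists_pow_zero (Line R).left (lineFn Polynomial.X) y (by
    have h2 := congrArg ((Line R).left.basicOpen (lineFn Polynomial.X)).topIso.hom h1
    rw [map_zero] at h2
    rw [← h2, ← CommRingCat.comp_apply]
    congr 2)
  have h3 : (Scheme.ΓSpecIso (CommRingCat.of R[X])).hom ((lineFn (Polynomial.X : R[X])) ^ n * y) = 0 := by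
    rw [hn, map_zero]
  have h4 : (Scheme.ΓSpecIso (CommRingCat.of R[X])).hom (lineFn (Polynomial.X : R[X])) = Polynomial.X :=
    (ConcreteCategory.congr_hom (Scheme.ΓSpecIso (CommRingCat.of R[X])).inv_hom_id (Polynomial.X : R[X]))
  rw [map_mul, map_pow, h4] at h3
  have h5 : (Scheme.ΓSpecIso (CommRingCat.of R[X])).hom y = 0 := by
    have h6 := (Polynomial.monic_X_pow (R := R) n).isRegular.left
    exact h6 (by simpa using h3)
  have h7 : (Scheme.ΓSpecIso (CommRingCat.of R[X])).inv ((Scheme.ΓSpecIso (CommRingCat.of R[X])).hom y) = y :=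
    ConcreteCategory.congr_hom (Scheme.ΓSpecIso (CommRingCat.of R[X])).hom_inv_id y
  rw [← h7, h5, map_zero]

/-- The value of `thetaOne` at the base. -/
theorem exists_n (K : Precoverage Scheme.{u}) [K.HasIsos] {S : Scheme.{u}} (h : Spec (CommRingCat.of R) ⟶ S) :
    ∃ w : (baseSt h).obj, Nonempty (uObj K (lineAction R) (chart (X := Line R) (lineFn Polynomial.X))
      (inc (X := Line R) (lineFn Polynomial.X)) ⟶ ((thetaOne K R h).obj w : AlgSt.QuotObj K (Gm R) (lineAction R))) := by
  refine ⟨Over.mk (𝟙 (Spec (CommRingCat.of R))), ?_⟩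
  obtain ⟨g, hg⟩ := exists_line (R := R)
  let z : Over.mk (𝟙 (Spec (CommRingCat.of R))) ⟶ Line R :=
    Over.homMk ((Over.mk (𝟙 (Spec (CommRingCat.of R)))).hom ≫ onePt R) (by
      rw [Category.assoc, onePt_hom, Category.comp_id])
  let z' : Over.mk (𝟙 (Spec (CommRingCat.of R))) ⟶ CoactBr.sp R R := Over.homMk (𝟙 _) (by
    rw [sp_self_hom]; rfl)
  have hz' : z = z' ≫ CoactBr.pt (lineOne R) := rfl
  have hz : z = K943.Points.one := by
    apply fn_injective (B := R[X])
    apply Polynomial.algHom_ext
    rw [K943.Points.one, fn_ofFn, linePt, Polynomial.aeval_X, hz', fn_comp_pt, AlgHom.comp_apply, lineOne,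
      Polynomial.aeval_X, map_one]
  rw [← hz] at hg
  exact ⟨uMapG (str _) g hg⟩

/-- Uniqueness of lifts against `1 : Spec R ⟶ Θ_R` for functors with closed immersions as diagonals. -/
theorem liftsUnique {S : Scheme.{u}} {𝒳 𝒴 : AlgSt.Cat S} {f : 𝒳 ⥤ᵇ 𝒴}
    (h𝒳 : Stk.IsStack (QuotSh.J Scheme.fppfPrecoverage S) 𝒳) (h𝒴 : Stk.IsStack (QuotSh.J Scheme.fppfPrecoverage S) 𝒴)
    (hf : AlgSt.IsClosedImm (FibCat.diag f)) (h : Spec (CommRingCat.of R) ⟶ S) :
    LiftSq.LiftsUnique (thetaOne Scheme.fppfPrecoverage R h) f := by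
  haveI := h𝒳.1
  haveI := h𝒴.1
  have hU : URep (MorphismProperty.inverseImage @IsClosedImmersion (Over.forget S)) (FibCat.diag f) :=
    uRep_of_repByAlgSpWith hf
  have hP : ∀ ⦃A B : Over S⦄ (g : A ⟶ B),
      (MorphismProperty.inverseImage @IsClosedImmersion (Over.forget S)) g → Mono g := by
    intro A B g hg
    haveI : IsClosedImmersion g.left := hg
    exact Over.mono_of_mono_left g
  intro sq
  obtain ⟨w, ⟨n⟩⟩ := exists_n (R := R) Scheme.fppfPrecoverage h
  haveI : IsAffine ((Over.map h).obj (Line R)).left := isAffine_line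
  exact K652.LiftUniq.uniqLift (ℬ := Theta Scheme.fppfPrecoverage R h)
    (fun e => K652.UniqDiag.eq_of_diag hP hU e) (u0 := u0 Scheme.fppfPrecoverage (lineAction R)) n
    (uMap (K := Scheme.fppfPrecoverage) (aX := lineAction R) (inc (X := Line R) (lineFn Polynomial.X))
      (Category.comp_id _))
    (K652.UniqDiag.uniqAt_of_diag hP hU
      (ext_closed ((Over.map h).map (inc (X := Line R) (lineFn Polynomial.X))) injective_inc))
    (fun b => K943.CoverExt.prestackFor_of_stackFor (h𝒳.2 _ (cov_mem h b)))
    (fun b => K943.CoverExt.prestackFor_of_stackFor (h𝒴.2 _ (cov_mem h b)))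

end K652.ThetaOne
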