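import Groth.Agent.ThetaS.K652.UniqDiag
import Groth.Agent.ThetaS.K943.LiftMain

/-!
# Uniqueness of dotted arrows for a faithful right side

`uniqLift`: `j : 𝒜 ⟶ ℬ` any left side, `f` faithful, `u0` a covering object of `ℬ`, `m : v ⟶ u0` an arrow along
which morphisms extend (`UniqAt`) from an object `v` mapping to the image of `j`; then any two dotted arrows are
uniquely isomorphic.
-/

set_option autoImplicit false
set_option linter.unusedSectionVars false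
set_option backward.isDefEq.respectTransparency false
set_option backward.isDefEq.respectTransparency.types false

universe v₄ u₄ v₃ u₃ v₂ u₂ v₁ u₁ v u

open CategoryTheory CategoryTheory.Limits FibCat

namespace K652.LiftUniq

open K943.FibBase K943.CoverExt K943.LocGlue

variable {C : Type u} [Category.{v} C] {𝒜 : BasedCategory.{v₁, u₁} C} {ℬ : BasedCategory.{v₂, u₂} C}
  {𝒳 : BasedCategory.{v₃, u₃} C} {𝒴 : BasedCategory.{v₄, u₄} C} {j : 𝒜 ⥤ᵇ ℬ} {f : 𝒳 ⥤ᵇ 𝒴}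
  [hℬ : IsFibGrpd ℬ.p] [h𝒳 : IsFibGrpd 𝒳.p] [h𝒴 : IsFibGrpd 𝒴.p] {sq : LiftSq.Sq j f}

section

variable (d d' : sq.Lift)

/-- The comparison of the images in `𝒴`. -/
noncomputable def psi (b : ℬ.obj) : f.obj (d.fn.obj b) ⟶ f.obj (d'.fn.obj b) :=
  d.isoBot.inv.toNatTrans.app b ≫ d'.isoBot.hom.toNatTrans.app b

theorem psi_lift (b : ℬ.obj) : 𝒴.p.IsHomLift (𝟙 (ℬ.p.obj b)) (psi d d' b) := by
  haveI : 𝒴.p.IsHomLift (𝟙 (ℬ.p.obj b)) (d.isoBot.inv.toNatTrans.app b) := d.isoBot.inv.isHomLift' b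
  haveI : 𝒴.p.IsHomLift (𝟙 (ℬ.p.obj b)) (d'.isoBot.hom.toNatTrans.app b) := d'.isoBot.hom.isHomLift' b
  change 𝒴.p.IsHomLift (𝟙 (ℬ.p.obj b)) (d.isoBot.inv.toNatTrans.app b ≫ d'.isoBot.hom.toNatTrans.app b)
  infer_instance

theorem bot_psi (b : ℬ.obj) : d.isoBot.hom.toNatTrans.app b ≫ psi d d' b = d'.isoBot.hom.toNatTrans.app b := by
  have h : d.isoBot.hom.toNatTrans.app b ≫ d.isoBot.inv.toNatTrans.app b = 𝟙 _ :=
    congrArg (fun t : sq.bot ⟶ sq.bot => t.toNatTrans.app b) d.isoBot.hom_inv_id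
  rw [psi, ← Category.assoc, h]
  exact Category.id_comp _

theorem psi_nat {b c : ℬ.obj} (m : b ⟶ c) :
    f.map (d.fn.map m) ≫ psi d d' c = psi d d' b ≫ f.map (d'.fn.map m) := by
  have h1 : f.map (d.fn.map m) ≫ d.isoBot.inv.toNatTrans.app c =
    d.isoBot.inv.toNatTrans.app b ≫ sq.bot.map m := d.isoBot.inv.toNatTrans.naturality m
  have h2 : sq.bot.map m ≫ d'.isoBot.hom.toNatTrans.app c =
    d'.isoBot.hom.toNatTrans.app b ≫ f.map (d'.fn.map m) := d'.isoBot.hom.toNatTrans.naturality m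
  calc f.map (d.fn.map m) ≫ psi d d' c
      = (f.map (d.fn.map m) ≫ d.isoBot.inv.toNatTrans.app c) ≫ d'.isoBot.hom.toNatTrans.app c :=
        (Category.assoc _ _ _).symm
    _ = (d.isoBot.inv.toNatTrans.app b ≫ sq.bot.map m) ≫ d'.isoBot.hom.toNatTrans.app c := by rw [h1]
    _ = d.isoBot.inv.toNatTrans.app b ≫ sq.bot.map m ≫ d'.isoBot.hom.toNatTrans.app c := Category.assoc _ _ _
    _ = d.isoBot.inv.toNatTrans.app b ≫ d'.isoBot.hom.toNatTrans.app b ≫ f.map (d'.fn.map m) := by rw [h2]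
    _ = psi d d' b ≫ f.map (d'.fn.map m) := (Category.assoc _ _ _).symm

theorem w_app (a : 𝒜.obj) : d.isoBot.hom.toNatTrans.app (j.obj a) ≫ f.map (d.isoTop.hom.toNatTrans.app a) =
    sq.iso.hom.toNatTrans.app a :=
  congrArg (fun t : BasedFunctor.comp j sq.bot ⟶ BasedFunctor.comp sq.top f => t.toNatTrans.app a) d.w

theorem psi_top (a : 𝒜.obj) : psi d d' (j.obj a) ≫ f.map (d'.isoTop.hom.toNatTrans.app a) =
    f.map (d.isoTop.hom.toNatTrans.app a) := by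
  haveI : 𝒴.p.IsHomLift (𝟙 (ℬ.p.obj (j.obj a))) (d.isoBot.hom.toNatTrans.app (j.obj a)) :=
    d.isoBot.hom.isHomLift' (j.obj a)
  haveI : IsIso (d.isoBot.hom.toNatTrans.app (j.obj a)) := isIso_of_lift_id 𝒴.p (T := ℬ.p.obj (j.obj a)) _
  rw [← cancel_epi (d.isoBot.hom.toNatTrans.app (j.obj a)), ← Category.assoc, bot_psi]
  exact (w_app d' a).trans (w_app d a).symm

/-- Transport of an extension along an arrow. -/
theorem exists_transport {a b : ℬ.obj} (m : a ⟶ b) {φ : d.fn.obj b ⟶ d'.fn.obj b}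
    (h : 𝒳.p.IsHomLift (𝟙 (ℬ.p.obj b)) φ) (e : f.map φ = psi d d' b) :
    ∃ χ : d.fn.obj a ⟶ d'.fn.obj a, 𝒳.p.IsHomLift (𝟙 (ℬ.p.obj a)) χ ∧ f.map χ = psi d d' a := by
  haveI : ℬ.p.IsHomLift (ℬ.p.map m) m := IsHomLift.map ℬ.p m
  haveI i1 : 𝒳.p.IsHomLift (ℬ.p.map m) (d.fn.map m) := BasedFunctor.preserves_isHomLift d.fn _ _
  haveI i2 : 𝒳.p.IsHomLift (ℬ.p.map m) (d'.fn.map m) := BasedFunctor.preserves_isHomLift d'.fn _ _
  haveI i3 : 𝒳.p.IsHomLift (𝟙 (ℬ.p.obj a) ≫ ℬ.p.map m) (d.fn.map m ≫ φ) := by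
    rw [Category.id_comp]; infer_instance
  obtain ⟨χ, ⟨h1, h2⟩, -⟩ := existsUnique_fac_lift 𝒳.p (𝟙 (ℬ.p.obj a)) (ℬ.p.map m) (d'.fn.map m) (d.fn.map m ≫ φ)
  refine ⟨χ, h1, ?_⟩
  haveI i4 : 𝒴.p.IsHomLift (𝟙 (ℬ.p.obj a)) (f.map χ) := BasedFunctor.preserves_isHomLift f _ _
  haveI i5 : 𝒴.p.IsHomLift (𝟙 (ℬ.p.obj a)) (psi d d' a) := psi_lift d d' a
  refine cart_ext_lift 𝒴.p (𝟙 (ℬ.p.obj a)) (f.map (d'.fn.map m)) ?_
  have e1 : f.map (χ ≫ d'.fn.map m) = f.map χ ≫ f.map (d'.fn.map m) := f.toFunctor.map_comp _ _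
  have e2 : f.map (d.fn.map m ≫ φ) = f.map (d.fn.map m) ≫ f.map φ := f.toFunctor.map_comp _ _
  rw [← e1, h2, e2, e, psi_nat]

/-- The comparison at the objects mapping to the image of `j`. -/
theorem exists_at {v : ℬ.obj} {w : 𝒜.obj} (n : v ⟶ j.obj w) :
    ∃ χ : d.fn.obj v ⟶ d'.fn.obj v, 𝒳.p.IsHomLift (𝟙 (ℬ.p.obj v)) χ ∧ f.map χ = psi d d' v := by
  haveI : 𝒳.p.IsHomLift (𝟙 (𝒜.p.obj w)) (d.isoTop.hom.toNatTrans.app w) := d.isoTop.hom.isHomLift' w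
  haveI : 𝒳.p.IsHomLift (𝟙 (𝒜.p.obj w)) (d'.isoTop.inv.toNatTrans.app w) := d'.isoTop.inv.isHomLift' w
  refine exists_transport d d' n (φ := d.isoTop.hom.toNatTrans.app w ≫ d'.isoTop.inv.toNatTrans.app w) ?_ ?_
  · rw [j.w_obj w]
    infer_instance
  · have e1 : f.map (d.isoTop.hom.toNatTrans.app w ≫ d'.isoTop.inv.toNatTrans.app w) =
      f.map (d.isoTop.hom.toNatTrans.app w) ≫ f.map (d'.isoTop.inv.toNatTrans.app w) := f.toFunctor.map_comp _ _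
    have e2 : d'.isoTop.hom.toNatTrans.app w ≫ d'.isoTop.inv.toNatTrans.app w = 𝟙 _ :=
      congrArg (fun t : BasedFunctor.comp j d'.fn ⟶ BasedFunctor.comp j d'.fn => t.toNatTrans.app w)
        d'.isoTop.hom_inv_id
    have e3 : f.map (d'.isoTop.hom.toNatTrans.app w) ≫ f.map (d'.isoTop.inv.toNatTrans.app w) = 𝟙 _ := by
      have h1 := f.toFunctor.map_comp (d'.isoTop.hom.toNatTrans.app w) (d'.isoTop.inv.toNatTrans.app w)
      rw [e2] at h1
      exact h1.symm.trans (f.toFunctor.map_id _)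
    rw [e1, ← psi_top d d', Category.assoc, e3]
    exact Category.comp_id _

end

/-- **Uniqueness of dotted arrows.** -/
theorem uniqLift (hf : ∀ {x x' : 𝒳.obj} {φ φ' : x ⟶ x'}, f.map φ = f.map φ' → φ = φ') {u0 v : ℬ.obj} {w : 𝒜.obj}
    (n : v ⟶ j.obj w) (m : v ⟶ u0) (hm : K942.AffLift.UniqAt f (ℬ.p.map m))
    (hX : ∀ b : ℬ.obj, Stk.IsPrestackFor (cov (closedInto_to u0) b) 𝒳)
    (hY : ∀ b : ℬ.obj, Stk.IsPrestackFor (cov (closedInto_to u0) b) 𝒴) : sq.UniqLift := by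
  intro d d'
  obtain ⟨φv, hv1, hv2⟩ := exists_at d d' n
  -- the comparison at `u0`
  obtain ⟨φ0, hφ1, hφ2⟩ : ∃ χ : d.fn.obj u0 ⟶ d'.fn.obj u0, 𝒳.p.IsHomLift (𝟙 (ℬ.p.obj u0)) χ ∧
      f.map χ = psi d d' u0 := by
    haveI : ℬ.p.IsHomLift (ℬ.p.map m) m := IsHomLift.map ℬ.p m
    haveI i1 : 𝒳.p.IsHomLift (ℬ.p.map m) (d.fn.map m) := BasedFunctor.preserves_isHomLift d.fn _ _
    haveI i2 : 𝒳.p.IsHomLift (ℬ.p.map m) (d'.fn.map m) := BasedFunctor.preserves_isHomLift d'.fn _ _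
    haveI i3 : 𝒳.p.IsHomLift (ℬ.p.map m) (φv ≫ d'.fn.map m) := by
      have : 𝒳.p.IsHomLift (𝟙 (ℬ.p.obj v) ≫ ℬ.p.map m) (φv ≫ d'.fn.map m) := inferInstance
      rwa [Category.id_comp] at this
    have e1 : f.map (φv ≫ d'.fn.map m) = f.map φv ≫ f.map (d'.fn.map m) := f.toFunctor.map_comp _ _
    obtain ⟨χ, ⟨h1, -, h2⟩, -⟩ := hm (d.fn.obj v) (d.fn.obj u0) (d'.fn.obj u0) (d.fn.map m)
      (φv ≫ d'.fn.map m) (psi d d' u0) i1 i3 (psi_lift d d' u0) (by rw [e1, hv2, psi_nat])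
    exact ⟨χ, h1, h2⟩
  have key : ∀ b : (sub ℬ (To u0)).obj, ∃ χ : d.fn.obj b.obj ⟶ d'.fn.obj b.obj,
      𝒳.p.IsHomLift (𝟙 (ℬ.p.obj b.obj)) χ ∧ f.map χ = psi d d' b.obj := fun b =>
    exists_transport d d' b.property.some hφ1 hφ2
  choose χ h1 h2 using key
  let α : BasedFunctor.comp (subI ℬ (To u0)) d.fn ⟶ BasedFunctor.comp (subI ℬ (To u0)) d'.fn :=
    { toNatTrans :=
        { app := fun b => χ b
          naturality := fun b c k => by
            apply hf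
            have e1 : f.map (d.fn.map k.hom ≫ χ c) = f.map (d.fn.map k.hom) ≫ f.map (χ c) :=
              f.toFunctor.map_comp _ _
            have e2 : f.map (χ b ≫ d'.fn.map k.hom) = f.map (χ b) ≫ f.map (d'.fn.map k.hom) :=
              f.toFunctor.map_comp _ _
            change f.map (d.fn.map k.hom ≫ χ c) = f.map (χ b ≫ d'.fn.map k.hom)
            rw [e1, e2, h2, h2, psi_nat] }
      isHomLift' := fun b => h1 b }
  obtain ⟨θ, hθ⟩ := exists_ext_nat (closedInto_to u0) hX α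
  let Ψ : BasedFunctor.comp d.fn f ⟶ BasedFunctor.comp d'.fn f := d.isoBot.inv ≫ d'.isoBot.hom
  have hθf : BasedCategory.whiskerRight θ f = Ψ := by
    apply nat_ext (closedInto_to u0) hY
    apply BasedNatTrans.homCategory.ext
    ext b
    have e1 : θ.toNatTrans.app b.obj = χ b :=
      congrArg (fun t : BasedFunctor.comp (subI ℬ (To u0)) d.fn ⟶ BasedFunctor.comp (subI ℬ (To u0)) d'.fn =>
        t.toNatTrans.app b) hθ
    change f.map (θ.toNatTrans.app b.obj) = psi d d' b.obj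
    rw [e1, h2]
  have hθb : ∀ b : ℬ.obj, f.map (θ.toNatTrans.app b) = psi d d' b := fun b =>
    congrArg (fun t : BasedFunctor.comp d.fn f ⟶ BasedFunctor.comp d'.fn f => t.toNatTrans.app b) hθf
  refine ⟨⟨⟨⟨θ, ?_, ?_⟩⟩, ?_⟩⟩
  · apply BasedNatTrans.homCategory.ext
    ext a
    apply hf
    change f.map (θ.toNatTrans.app (j.obj a) ≫ d'.isoTop.hom.toNatTrans.app a) =
      f.map (d.isoTop.hom.toNatTrans.app a)
    have e1 : f.map (θ.toNatTrans.app (j.obj a) ≫ d'.isoTop.hom.toNatTrans.app a) =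
      f.map (θ.toNatTrans.app (j.obj a)) ≫ f.map (d'.isoTop.hom.toNatTrans.app a) := f.toFunctor.map_comp _ _
    rw [e1, hθb, psi_top]
  · rw [hθf]
    exact Iso.hom_inv_id_assoc d.isoBot d'.isoBot.hom
  · intro θ'
    apply LiftSq.Sq.Lift.hom_ext
    apply BasedNatTrans.homCategory.ext
    ext b
    apply hf
    change f.map (θ'.hom.toNatTrans.app b) = f.map (θ.toNatTrans.app b)
    rw [hθb]
    have e1 : d.isoBot.hom.toNatTrans.app b ≫ f.map (θ'.hom.toNatTrans.app b) =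
        d'.isoBot.hom.toNatTrans.app b :=
      congrArg (fun t : sq.bot ⟶ BasedFunctor.comp d'.fn f => t.toNatTrans.app b) θ'.w_bot
    haveI : 𝒴.p.IsHomLift (𝟙 (ℬ.p.obj b)) (d.isoBot.hom.toNatTrans.app b) := d.isoBot.hom.isHomLift' b
    haveI : IsIso (d.isoBot.hom.toNatTrans.app b) := isIso_of_lift_id 𝒴.p (T := ℬ.p.obj b) _
    rw [← cancel_epi (d.isoBot.hom.toNatTrans.app b), bot_psi]
    exact e1

end K652.LiftUniq
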