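import Groth.Agent.ThetaS.K942.AffLift
import Groth.Agent.ThetaS.K943.FibBase

/-!
# Unique extension of morphisms from a representable diagonal

If the diagonal of `f : 𝒳 ⟶ 𝒴` is representable with a property `P` implying monomorphism and sections of
morphisms with `P` extend uniquely along `i : V ⟶ T`, then `UniqAt f i` (`uniqAt_of_diag`); moreover `f` is faithful
(`eq_of_diag`).
-/

set_option autoImplicit false
set_option linter.unusedSectionVars false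
set_option backward.isDefEq.respectTransparency false
set_option backward.isDefEq.respectTransparency.types false

universe v₂ u₂ v₁ u₁ v u

open CategoryTheory CategoryTheory.Limits FibCat

namespace K652.UniqDiag

open K943.FibBase K942.URep K942.AffLift

variable {C : Type u} [Category.{v} C] {𝒳 : BasedCategory.{v₁, u₁} C} {𝒴 : BasedCategory.{v₂, u₂} C}
  {f : 𝒳 ⥤ᵇ 𝒴} [IsFibGrpd 𝒳.p] [IsFibGrpd 𝒴.p]

/-- The object `(x, x', ψ)` of `𝒳 ×_𝒴 𝒳`. -/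
noncomputable def mkFp {x x' : 𝒳.obj} (ψ : f.obj x ⟶ f.obj x') [h : 𝒴.p.IsHomLift (𝟙 (𝒳.p.obj x)) ψ] :
    (fp f f).obj :=
  ⟨{ fst := x, snd := x', iso := haveI := isIso_of_lift_id 𝒴.p (T := 𝒳.p.obj x) ψ; asIso ψ }, h⟩

/-- The arrow from a diagonal object. -/
noncomputable def mkHom {v x x' : 𝒳.obj} {ψ : f.obj x ⟶ f.obj x'} [h : 𝒴.p.IsHomLift (𝟙 (𝒳.p.obj x)) ψ]
    (t : v ⟶ x) (t' : v ⟶ x') (e : f.map t ≫ ψ = f.map t') : (diag f).obj v ⟶ mkFp ψ :=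
  ObjectProperty.homMk
    { fst := t
      snd := t'
      w := e.trans (Category.id_comp _).symm }

/-- The components of an arrow from a diagonal object. -/
theorem exists_comp {v x x' : 𝒳.obj} {ψ : f.obj x ⟶ f.obj x'} [h : 𝒴.p.IsHomLift (𝟙 (𝒳.p.obj x)) ψ]
    (c : (diag f).obj v ⟶ mkFp ψ) :
    ∃ (t : v ⟶ x) (t' : v ⟶ x') (e : f.map t ≫ ψ = f.map t'), c = mkHom t t' e ∧ (fp f f).p.map c = 𝒳.p.map t :=
  ⟨c.hom.fst, c.hom.snd, c.hom.w.trans (Category.id_comp _), rfl, rfl⟩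

theorem mkHom_inj {v x x' : 𝒳.obj} {ψ : f.obj x ⟶ f.obj x'} [h : 𝒴.p.IsHomLift (𝟙 (𝒳.p.obj x)) ψ]
    {t s : v ⟶ x} {t' s' : v ⟶ x'} {e : f.map t ≫ ψ = f.map t'} {e' : f.map s ≫ ψ = f.map s'}
    (h : mkHom t t' e = mkHom s s' e') : t = s ∧ t' = s' :=
  ⟨congrArg (fun c => c.hom.fst) h, congrArg (fun c => c.hom.snd) h⟩

theorem diag_comp {v w x x' : 𝒳.obj} {ψ : f.obj x ⟶ f.obj x'} [h : 𝒴.p.IsHomLift (𝟙 (𝒳.p.obj x)) ψ]
    (m : w ⟶ v) (t : v ⟶ x) (t' : v ⟶ x') (e : f.map t ≫ ψ = f.map t') :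
    (diag f).map m ≫ mkHom t t' e = mkHom (m ≫ t) (m ≫ t') (by
      rw [f.toFunctor.map_comp, f.toFunctor.map_comp, Category.assoc, e]) := rfl

/-- The universal object in components. -/
theorem exists_univ {P : MorphismProperty C} (hf : URep P (diag f)) {x x' : 𝒳.obj} (ψ : f.obj x ⟶ f.obj x')
    [h : 𝒴.p.IsHomLift (𝟙 (𝒳.p.obj x)) ψ] :
    ∃ (l : 𝒳.obj) (c : l ⟶ x) (c' : l ⟶ x'), P (𝒳.p.map c) ∧ f.map c ≫ ψ = f.map c' ∧
      ∀ (v : 𝒳.obj) (t : v ⟶ x) (t' : v ⟶ x'), f.map t ≫ ψ = f.map t' → ∃ m : v ⟶ l, m ≫ c = t ∧ m ≫ c' = t' := by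
  obtain ⟨l, g, c, hc, hP, hu⟩ := hf (mkFp ψ)
  obtain ⟨c1, c2, e, rfl, hb⟩ := exists_comp c
  have hg : g = 𝒳.p.map c1 := by
    haveI : (fp f f).p.IsHomLift (𝒳.p.map c1) (mkHom (f := f) c1 c2 e) :=
      IsHomLift.map (fp f f).p (mkHom (f := f) c1 c2 e)
    exact base_unique (p := (fp f f).p) g (𝒳.p.map c1) (mkHom (f := f) c1 c2 e)
  refine ⟨l, c1, c2, by rw [← hg]; exact hP, e, fun v t t' e' => ?_⟩
  obtain ⟨m, hm, -⟩ := hu v (mkHom t t' e')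
  rw [diag_comp] at hm
  exact ⟨m, (mkHom_inj hm).1, (mkHom_inj hm).2⟩

/-- A functor with representable diagonal with `P` implying monomorphism is faithful. -/
theorem eq_of_diag {P : MorphismProperty C} (hP : ∀ ⦃A B : C⦄ (g : A ⟶ B), P g → Mono g) (hf : URep P (diag f))
    {x x' : 𝒳.obj} {φ φ' : x ⟶ x'} (h : f.map φ = f.map φ') : φ = φ' := by
  haveI : 𝒴.p.IsHomLift (𝟙 (𝒳.p.obj x')) (𝟙 (f.obj x')) := IsHomLift.id (f.w_obj x')
  obtain ⟨l, c, c', hc, -, hu⟩ := exists_univ hf (𝟙 (f.obj x'))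
  haveI := hP _ hc
  obtain ⟨m, h1, h2⟩ := hu x' (𝟙 x') (𝟙 x') (Category.comp_id _)
  obtain ⟨n, rfl, rfl⟩ := hu x φ φ' (by rw [Category.comp_id, h])
  have h3 : 𝒳.p.map m ≫ 𝒳.p.map c = 𝟙 _ := by rw [← Functor.map_comp, h1, CategoryTheory.Functor.map_id]
  haveI : IsSplitEpi (𝒳.p.map c) := ⟨⟨_, h3⟩⟩
  haveI : IsIso (𝒳.p.map c) := isIso_of_mono_of_isSplitEpi _
  haveI : IsIso c := isIso_of_map 𝒳.p c
  have h4 : m = inv c := by rw [← cancel_mono c, h1, IsIso.inv_hom_id]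
  rw [h4] at h2
  rw [← Category.id_comp c', ← IsIso.hom_inv_id c, Category.assoc, h2, Category.comp_id]

/-- Unique extension of morphisms. -/
theorem uniqAt_of_diag {P : MorphismProperty C} (hP : ∀ ⦃A B : C⦄ (g : A ⟶ B), P g → Mono g) (hf : URep P (diag f))
    {V T : C} {i : V ⟶ T} (hi : Ext P i) : K942.AffLift.UniqAt f i := by
  intro v x x' t t' ψ ht ht' hψ e
  have hx : 𝒳.p.obj x = T := IsHomLift.codomain_eq 𝒳.p i t
  subst hx
  obtain ⟨l, c, c', hc, ec, hu⟩ := exists_univ hf ψ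
  haveI := hP _ hc
  obtain ⟨m, hm, hm'⟩ := hu v t t' e
  have hv : 𝒳.p.obj v = V := IsHomLift.domain_eq 𝒳.p i t
  subst hv
  have hi' : 𝒳.p.map t = i := (IsHomLift.eq_of_isHomLift 𝒳.p i t).symm
  subst hi'
  obtain ⟨s, ⟨hs1, hs2⟩, -⟩ := hi _ (𝒳.p.map c) (𝒳.p.map m) hc (by rw [← Functor.map_comp, hm])
  haveI : IsSplitEpi (𝒳.p.map c) := ⟨⟨_, hs2⟩⟩
  haveI : IsIso (𝒳.p.map c) := isIso_of_mono_of_isSplitEpi _
  haveI : IsIso c := isIso_of_map 𝒳.p c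
  have hfφ : f.map (inv c ≫ c') = ψ := by
    have h1 : f.map (inv c ≫ c') = f.map (inv c) ≫ f.map c' := f.toFunctor.map_comp _ _
    have h2 : f.map (inv c) ≫ f.map c = 𝟙 _ := by
      have := f.toFunctor.map_comp (inv c) c
      rw [IsIso.inv_hom_id, f.toFunctor.map_id] at this
      exact this.symm
    rw [h1, ← ec, ← Category.assoc, h2, Category.id_comp]
  refine ⟨inv c ≫ c', ⟨?_, ?_, hfφ⟩, fun φ' h => eq_of_diag hP hf (h.2.2.trans hfφ.symm)⟩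
  · rw [← BasedFunctor.isHomLift_iff f, hfφ]; exact hψ
  · rw [← hm, Category.assoc, IsIso.hom_inv_id_assoc, hm']

end K652.UniqDiag
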